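import Cfsg.Agent.TAB.Sm1.Td
import Cfsg.Agent.TAB.Sm1.Tool
import Cfsg.Agent.H89.S8.J2Chr
import Cfsg.Agent.H269.CubeJ2
import Cfsg.Agent.H379.J2Spec

/-!
# The table of `J₂` (helper19, TAB)

Classes of helper1 and helper121, characters of helper89.
The types are 1A 2A 2B 3A 3B 4A 5AB 5CD 6A 6B 7A 8A 10AB 10CD 12A 15AB.
-/

set_option autoImplicit false
set_option maxRecDepth 100000
set_option maxHeartbeats 400000

namespace Cfsg.Agent.TAB.J2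

open Cfsg Equiv Cfsg.Agent.TAB.Eng Cfsg.Agent.TAB.Use Cfsg.Agent.TAB.Sm1 Cfsg.Agent.TAB.Sm2 Cfsg.Agent.H447.CTab
open Cfsg.Agent.Characters Cfsg.Agent.SporadicA.PermTab
open Cfsg.Agent.SporadicA.J2Hundred (G pT pT_mem card_G)
open Cfsg.Agent.SporadicA.J2Data (tT)
open Cfsg.Agent.J2.HundredGens (gw pw run chk pw_eq pw_val)
open Cfsg.Agent.H1.J2Cover (rL gw_append gw_nil)
open Cfsg.Agent.H121.OZ.JTwoCls (cl ol order_r)
open Cfsg.Agent.H89.S8.J2 (T phi_char phi_r fix315 w36 f1 f315 X)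
open Cfsg.Agent.H269.CubeJ2 (cj cj_val gp_inv gp_val)

/-- the types -/
def D : Dat where
  n := 16
  N := 604800
  ordL := [1, 2, 2, 3, 3, 4, 5, 5, 6, 6, 7, 8, 10, 10, 12, 15]
  cntL := [1, 315, 2520, 560, 16800, 6300, 4032, 24192, 25200, 50400, 86400, 75600, 60480, 120960, 50400, 80640]
  pwL := [[],
    [(1, 1)],
    [(1, 2)],
    [(1, 3)],
    [(1, 4)],
    [(1, 5), (2, 1)],
    [(1, 6)],
    [(1, 7)],
    [(1, 8), (2, 3), (3, 1)],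
    [(1, 9), (2, 4), (3, 2)],
    [(1, 10)],
    [(1, 11), (2, 5), (4, 1)],
    [(1, 12), (2, 6), (5, 2)],
    [(1, 13), (2, 7), (5, 1)],
    [(1, 14), (2, 8), (3, 5), (4, 3), (6, 1)],
    [(1, 15), (3, 6), (5, 3)]]

/-- the characters of degrees 36, 100, 315 and the number of square roots -/
def seeds : List (List ℤ) := [
[36, 4, 0, 9, 0, 4, -4, 1, 1, 0, 1, 0, 0, -1, 1, -1],
[100, 20, 0, 10, 4, 8, 0, 0, 2, 0, 2, 2, 0, 0, 2, 0],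
[315, 11, 15, 45, 0, 7, 0, 5, 5, 0, 0, 1, 0, 1, 1, 0],
[2836, 20, 0, 46, 4, 12, 16, 6, 2, 0, 1, 0, 0, 0, 0, 1]]

/-- the rational irreducible characters -/
def A : List (List ℤ) := [
[1, 1, 1, 1, 1, 1, 1, 1, 1, 1, 1, 1, 1, 1, 1, 1],
[36, 4, 0, 9, 0, 4, -4, 1, 1, 0, 1, 0, 0, -1, 1, -1],
[63, 15, -1, 0, 3, 3, 3, -2, 0, -1, 0, 1, -1, 0, 0, 0],
[90, 10, 6, 9, 0, -2, 5, 0, 1, 0, -1, 0, 1, 0, 1, -1],
[126, 14, 6, -9, 0, 2, 1, 1, -1, 0, 0, 0, 1, -1, -1, 1],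
[160, 0, 4, 16, 1, 0, -5, 0, 0, 1, -1, 0, -1, 0, 0, 1],
[175, 15, -5, -5, 1, -1, 0, 0, 3, 1, 0, -1, 0, 0, -1, 0],
[225, -15, 5, 0, 3, -3, 0, 0, 0, -1, 1, -1, 0, 0, 0, 0],
[288, 0, 4, 0, -3, 0, 3, -2, 0, 1, 1, 0, -1, 0, 0, 0],
[300, -20, 0, -15, 0, 4, 0, 0, 1, 0, -1, 0, 0, 0, 1, 0],
[336, 16, 0, -6, 0, 0, -4, 1, -2, 0, 0, 0, 0, 1, 0, -1]]

/-- the sums of two conjugate characters -/
def B : List (List ℤ) := [
[28, -4, 4, 10, -2, 4, 3, 3, 2, -2, 0, 0, -1, 1, -2, 0],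
[42, 10, -6, 6, 0, 2, 7, 2, -2, 0, 0, -2, -1, 0, 2, 1],
[140, -20, -4, 14, 2, 4, 5, 0, -2, 2, 0, 0, 1, 0, -2, -1],
[378, -6, -6, 0, 0, -6, 3, 3, 0, 0, 0, 2, -1, -1, 0, 0],
[448, 0, -8, 16, -2, 0, -2, -2, 0, -2, 0, 0, 2, 0, 0, 1]]

/-- the primes and the sections -/
def PL : List (ℕ × ℕ × List ℕ) := [(2, 7, [0, 3, 4, 6, 7, 10, 15]),
  (3, 3, [0, 1, 2, 5, 6, 7, 10, 11, 12, 13]),
  (5, 2, [0, 1, 2, 3, 4, 5, 8, 9, 10, 11, 14]),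
  (7, 1, [0, 1, 2, 3, 4, 5, 6, 7, 8, 9, 11, 12, 13, 14, 15])]

/-- the certificates -/
def CL : List (ℕ × ℕ × List Cert) := [
(2, 7, [
⟨0, [.one, .gen 0 1 0, .gen 1 1 0, .mul 0 0, .lin [(124, 2), (106, 1), (43, 0)], .lin [(1, 3)], .lin [(2, 5), (63,
    3)], .lin [(1, 6)]], [(4, 1), (2, 2), (3, 4), (0, 8)]⟩,
⟨3, [.one, .gen 0 1 0, .gen 3 1 0, .lin [(71, 2), (57, 1), (68, 0)], .lin [(39, 1)], .lin [(1, 4)]], [(2, 1), (0, 2),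
    (1, 8)]⟩,
⟨4, [.one, .gen 1 1 0, .lin [(4, 1), (95, 0)], .lin [(1, 2)]], [(0, 1), (1, 4)]⟩,
⟨6, [.one, .gen 0 1 0, .lin [(4, 1), (1, 0)], .lin [(1, 2)]], [(0, 1), (1, 4)]⟩,
⟨7, [.one, .gen 0 1 0, .lin [(65, 1), (63, 0)], .lin [(1, 2)]], [(0, 1), (1, 2)]⟩,
⟨10, [.one, .lin [(1, 0)]], [(0, 1)]⟩,
⟨15, [.one, .lin [(1, 0)]], [(0, 1)]⟩]),
(3, 3, [
⟨0, [.one, .gen 1 1 0, .lin [(10, 1), (11, 0)], .lin [(1, 2)]], [(2, 1), (0, 3)]⟩,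
⟨1, [.one, .gen 0 1 0, .lin [(13, 1), (17, 0)], .lin [(1, 2)]], [(0, 1), (1, 3)]⟩,
⟨2, [.one, .gen 2 1 0, .lin [(3, 1), (7, 0)], .lin [(1, 2)]], [(0, 1), (1, 3)]⟩,
⟨5, [.one, .gen 0 1 0, .lin [(13, 1), (17, 0)], .lin [(1, 2)]], [(0, 1), (1, 3)]⟩,
⟨6, [.one, .gen 0 1 0, .lin [(4, 1), (1, 0)], .lin [(1, 2)]], [(0, 1), (1, 3)]⟩,
⟨7, [.one, .lin [(1, 0)]], [(0, 1)]⟩,
⟨10, [.one, .lin [(1, 0)]], [(0, 1)]⟩,
⟨11, [.one, .lin [(1, 0)]], [(0, 1)]⟩,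
⟨12, [.one, .lin [(1, 0)]], [(0, 1)]⟩,
⟨13, [.one, .lin [(1, 0)]], [(0, 1)]⟩]),
(5, 2, [
⟨0, [.one, .gen 0 1 0, .lin [(7, 1), (13, 0)], .lin [(1, 2)]], [(0, 1), (1, 5)]⟩,
⟨1, [.one, .gen 0 1 0, .lin [(24, 1), (19, 0)], .lin [(1, 2)]], [(0, 1), (1, 5)]⟩,
⟨2, [.one, .gen 2 1 0, .lin [(5, 1), (13, 0)], .lin [(1, 2)]], [(0, 1), (1, 5)]⟩,
⟨3, [.one, .gen 0 1 0, .lin [(22, 1), (17, 0)], .lin [(1, 2)]], [(0, 1), (1, 5)]⟩,
⟨4, [.one, .lin [(1, 0)]], [(0, 1)]⟩,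
⟨5, [.one, .lin [(1, 0)]], [(0, 1)]⟩,
⟨8, [.one, .lin [(1, 0)]], [(0, 1)]⟩,
⟨9, [.one, .lin [(1, 0)]], [(0, 1)]⟩,
⟨10, [.one, .lin [(1, 0)]], [(0, 1)]⟩,
⟨11, [.one, .lin [(1, 0)]], [(0, 1)]⟩,
⟨14, [.one, .lin [(1, 0)]], [(0, 1)]⟩]),
(7, 1, [
⟨0, [.one, .lin [(1, 0)]], [(0, 1)]⟩,
⟨1, [.one, .lin [(1, 0)]], [(0, 1)]⟩,
⟨2, [.one, .lin [(1, 0)]], [(0, 1)]⟩,
⟨3, [.one, .lin [(1, 0)]], [(0, 1)]⟩,
⟨4, [.one, .lin [(1, 0)]], [(0, 1)]⟩,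
⟨5, [.one, .lin [(1, 0)]], [(0, 1)]⟩,
⟨6, [.one, .lin [(1, 0)]], [(0, 1)]⟩,
⟨7, [.one, .lin [(1, 0)]], [(0, 1)]⟩,
⟨8, [.one, .lin [(1, 0)]], [(0, 1)]⟩,
⟨9, [.one, .lin [(1, 0)]], [(0, 1)]⟩,
⟨11, [.one, .lin [(1, 0)]], [(0, 1)]⟩,
⟨12, [.one, .lin [(1, 0)]], [(0, 1)]⟩,
⟨13, [.one, .lin [(1, 0)]], [(0, 1)]⟩,
⟨14, [.one, .lin [(1, 0)]], [(0, 1)]⟩,
⟨15, [.one, .lin [(1, 0)]], [(0, 1)]⟩])]

/-- the degrees -/
def degL : List ℕ := [1, 36, 63, 90, 126, 160, 175, 225, 288, 300, 336, 14, 14, 21, 21, 70, 70, 189, 189, 224, 224]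

/-- the types of the classes -/
def rc : List ℕ := [0, 1, 2, 6, 4, 11, 3, 6, 12, 8, 9, 14, 12, 15, 5, 13, 15, 13, 10, 7, 7]

/-- the numerical data of the classes -/
def E : CD := ⟨ol, cl, rc, [w36, f1.map (↑), f315.map (↑)]⟩

theorem ok : E.Ok T := by
  refine ⟨fun i => (order_r i.2).trans ?_, fun i => ?_, ?_⟩
  · revert i
    decide +kernel
  · revert i
    exact (by decide +kernel : ∀ i : Fin 21, H121.OZ.JTwoCls.cv i = cl.getD i 0)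
  · have h1 : ∀ (L : List ℕ) (i : ℕ), (((L.map (↑) : List ℤ).getD i 0 : ℤ) : ℂ) = L.getD i 0 := fun L i => by
      rw [show (0 : ℤ) = ((0 : ℕ) : ℤ) from rfl, List.getD_map, Int.cast_natCast]
    exact List.forall_mem_cons.2 ⟨⟨_, Brauer.isGeneralizedCharacter_of_isCharacter phi_char, fun i => (phi_r i).1⟩,
      List.forall_mem_cons.2 ⟨⟨_, Brauer.isGeneralizedCharacter_of_isCharacter
        (S0157.isCharacter_fixedBy (G := G) (Fin 100)), fun i => (phi_r i).2.trans (h1 _ _).symm⟩,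
      List.forall_mem_singleton.2 ⟨_, Brauer.isGeneralizedCharacter_of_isCharacter
        (S0157.isCharacter_fixedBy (G := G) X), fun i => (congrArg Nat.cast (fix315 i)).trans (h1 _ _).symm⟩⟩⟩

/-! ### conjugating words -/

theorem gw_pow (L : List ℕ) (m : ℕ) : gw (List.replicate m L).flatten = gw L ^ m := by
  induction m with
  | zero => rfl
  | succ m ih => rw [List.replicate_succ, List.flatten_cons, gw_append, ih, pow_succ']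

theorem conj_pw {i j : Fin 21} {m : ℕ} (W : List ℕ)
    (h : chk (W ++ (List.replicate m (rL i)).flatten) (rL j ++ W) = true) : IsConj (T.x i ^ m) (T.x j) := by
  refine isConj_iff.2 ⟨gw W, mul_inv_eq_iff_eq_mul.2 ?_⟩
  change gw W * gw (rL i) ^ m = gw (rL j) * gw W
  rw [← gw_pow, ← gw_append, ← gw_append]
  exact Subtype.ext (pw_eq h)

theorem conj_out {i j : Fin 21} (W : List ℕ)
    (h : ∀ x : Fin 100, run W (lk tT (run (rL i) (lk tT x))) = run (rL j) (run W x)) :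
    IsConj (cj pT pT_mem (T.x i)) (T.x j) := by
  refine isConj_iff.2 ⟨gw W, mul_inv_eq_iff_eq_mul.2 (Subtype.ext (Equiv.ext fun x => Fin.ext ?_))⟩
  have h1 : pT⁻¹ = pT := gp_inv 5
  have h2 : ∀ y : Fin 100, (pT y : ℕ) = lk tT y := gp_val 5
  change ((pw W (pT (pw (rL i) (pT⁻¹ x))) : Fin 100) : ℕ) = (pw (rL j) (pw W x) : Fin 100)
  rw [h1, pw_val, h2, pw_val, h2, pw_val, pw_val, h]

theorem p3 : IsConj (T.x 3 ^ 2) (T.x 7) := conj_pw [1, 0, 1, 2, 0] (by decide +kernel)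
theorem p8 : IsConj (T.x 8 ^ 3) (T.x 12) := conj_pw [1, 0, 1, 2, 3, 4] (by decide +kernel)
theorem p13 : IsConj (T.x 13 ^ 2) (T.x 16) :=
  conj_pw [4, 3, 2, 3, 0, 1, 0, 1, 2, 3, 4, 2, 3, 2, 1, 0, 1, 2, 3, 4, 1, 2, 3, 1, 2, 0] (by decide +kernel)
theorem p15 : IsConj (T.x 15 ^ 3) (T.x 17) :=
  conj_pw [1, 2, 3, 4, 3, 1, 2, 3, 2, 1, 0, 1, 2, 3, 4, 2, 3, 2, 3, 1, 0, 1, 2, 3] (by decide +kernel)
theorem p19 : IsConj (T.x 19 ^ 2) (T.x 20) :=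
  conj_pw [4, 3, 1, 2, 3, 0, 1, 2, 3, 4, 0, 1, 2, 3, 2, 0, 1] (by decide +kernel)
theorem q8 : IsConj (T.x 8 ^ 4) (T.x 3) := conj_pw [0] (by decide +kernel)

theorem pairs : ∀ i j : Fin 21, rc.getD i 0 = rc.getD j 0 → i = j ∨
    (i, j) ∈ [((3 : Fin 21), (7 : Fin 21)), (8, 12), (13, 16), (15, 17), (19, 20)] ∨
    (j, i) ∈ [((3 : Fin 21), (7 : Fin 21)), (8, 12), (13, 16), (15, 17), (19, 20)] := by decide +kernel

theorem out {i j : Fin 21} (h : (i, j) ∈ [((3 : Fin 21), (7 : Fin 21)), (8, 12), (13, 16), (15, 17), (19, 20)]) :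
    IsConj (cj pT pT_mem (T.x i)) (T.x j) := by
  simp only [List.mem_cons, Prod.mk.injEq, List.not_mem_nil, or_false] at h
  rcases h with ⟨rfl, rfl⟩ | ⟨rfl, rfl⟩ | ⟨rfl, rfl⟩ | ⟨rfl, rfl⟩ | ⟨rfl, rfl⟩
  · exact conj_out [3, 1, 0, 1] (by decide +kernel)
  · exact conj_out [2, 3, 2, 3, 1, 2, 3, 4, 3, 0, 1, 0, 1] (by decide +kernel)
  · exact conj_out [3, 0, 1, 2, 3, 4, 3, 0, 1, 2, 3, 0, 1, 2, 0, 1, 0, 1] (by decide +kernel)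
  · exact conj_out [3, 2, 1, 0, 1, 2, 3, 4, 1, 2, 3, 1, 0] (by decide +kernel)
  · exact conj_out [1, 2, 3, 0, 1, 2, 3, 4, 2, 3, 1, 0, 1, 2, 3, 1, 2] (by decide +kernel)

/-- the representatives of the types -/
def rep (t : ℕ) : Fin 21 := [0, 1, 2, 6, 4, 14, 3, 19, 9, 10, 18, 5, 8, 15, 11, 13].getD t 0

theorem rep_pow (i : Fin 21) : ∃ m, IsConj (T.x (rep (rc.getD i 0)) ^ m) (T.x i) := by
  have h : ∀ i : Fin 21, rep (rc.getD i 0) = i ∨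
      (rep (rc.getD i 0), i) ∈ [((3 : Fin 21), (7 : Fin 21)), (8, 12), (13, 16), (15, 17), (19, 20)] := by
    decide +kernel
  rcases h i with h | h
  · exact ⟨1, by rw [h, pow_one]⟩
  · generalize rep (rc.getD i 0) = j at h
    simp only [List.mem_cons, Prod.mk.injEq, List.not_mem_nil, or_false] at h
    rcases h with ⟨rfl, rfl⟩ | ⟨rfl, rfl⟩ | ⟨rfl, rfl⟩ | ⟨rfl, rfl⟩ | ⟨rfl, rfl⟩
    exacts [⟨_, p3⟩, ⟨_, p8⟩, ⟨_, p13⟩, ⟨_, p15⟩, ⟨_, p19⟩]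

/-- the automorphisms preserve the types -/
theorem rc_aut (σ : MulAut G) (g : G) : rc.getD (T.cl (σ g)) 0 = rc.getD (T.cl g) 0 := by
  have h1 : ∀ i j : Fin 21, ol.getD i 0 = ol.getD j 0 → cl.getD i 0 = cl.getD j 0 → rc.getD i 0 = rc.getD j 0 := by
    decide +kernel
  refine h1 _ _ ?_ ?_
  · exact (ok.o _).symm.trans ((order_conj (T.isConj_cl _)).trans ((σ.orderOf_eq g).trans
      ((order_conj (T.isConj_cl g)).symm.trans (ok.o _))))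
  · refine (ok.c _).symm.trans ((T.card _).symm.trans ((card_cent_conj (T.isConj_cl _)).trans (Eq.trans ?_
      ((card_cent_conj (T.isConj_cl g)).symm.trans ((T.card _).trans (ok.c _))))))
    refine (Nat.card_congr (σ.toEquiv.subtypeEquiv fun x => ?_)).symm
    simp only [Subgroup.mem_centralizer_singleton_iff, MulEquiv.toEquiv_eq_coe, EquivLike.coe_coe, ← map_mul,
      σ.injective.eq_iff]

theorem fuse {g h : G} (e : rc.getD (T.cl g) 0 = rc.getD (T.cl h) 0) : ∃ σ : MulAut G, σ g = h := by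
  have key : ∀ g h : G, IsConj (cj pT pT_mem (T.x (T.cl g))) (T.x (T.cl h)) → ∃ σ : MulAut G, σ g = h := by
    intro g h h1
    obtain ⟨c, hc⟩ := isConj_iff.1 ((((cj pT pT_mem).toMonoidHom.map_isConj (T.isConj_cl g)).symm.trans h1).trans
      (T.isConj_cl h))
    exact ⟨MulAut.conj c * cj pT pT_mem, hc⟩
  rcases pairs _ _ e with h1 | h1 | h1
  · obtain ⟨c, hc⟩ := isConj_iff.1 ((T.isConj_cl g).symm.trans (h1 ▸ T.isConj_cl h))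
    exact ⟨MulAut.conj c, hc⟩
  · exact key g h (out h1)
  · obtain ⟨σ, rfl⟩ := key h g (out h1)
    exact ⟨σ.symm, σ.symm_apply_apply h⟩

/-- **the table** -/
theorem tab : ∃ S : TD G D, S.Mass ∧ (∀ g, S.ty g = rc.getD (T.cl g) 0) ∧ Sz.Hom S ∧ ON.Rat S ∧ Inh S ∧
    Tab S (mkRows A B) := by
  obtain ⟨S, hm, hT⟩ := ofTab (D := D) ok card_G (PL := [2, 3, 5, 7, 11, 13]) (X := []) (by decide +kernel)
    fun _ _ h => absurd h List.not_mem_nil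
  have hR : ON.Rat S := rat_of_tab hT rep fun i =>
    ⟨(by decide +kernel : ∀ i : Fin 21, rc.getD (rep (rc.getD i 0)) 0 = rc.getD i 0) i, rep_pow i⟩
  have h1 : Virt S (nth (List.replicate 16 1)) := (Virt.const 1).congr (by decide +kernel)
  have hs : ∀ v ∈ seeds, Virt S (nth v) :=
    List.forall_mem_cons.2 ⟨(ok.th _ List.mem_cons_self).virt hT (by decide +kernel), List.forall_mem_cons.2
      ⟨(ok.th _ (List.mem_cons_of_mem _ List.mem_cons_self)).virt hT (by decide +kernel), List.forall_mem_cons.2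
      ⟨(ok.th _ (List.mem_cons_of_mem _ (List.mem_cons_of_mem _ List.mem_cons_self))).virt hT (by decide +kernel),
      List.forall_mem_singleton.2 (ON.virt_coad (k := 2) hm hR h1 (by decide +kernel))⟩⟩⟩
  refine ⟨S, hm, hT, fun y y' h => ?_, hR, Co.tab_of_virt hm (by decide +kernel)
    (virt_okC (PL := PL) (CL := CL) hm.1 hs (by decide +kernel)) (by decide +kernel)⟩
  obtain ⟨σ, hσ⟩ := fuse ((hT y).symm.trans (h.trans (hT y')))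
  exact ⟨σ, hσ, fun g => (hT _).trans ((rc_aut σ g).trans (hT g).symm)⟩

theorem moved_G : OddMoved G := by
  obtain ⟨S, -, hT, -, -, -, χ, hE, hR⟩ := tab
  have h1 : ∀ j < (mkRows A B).n, j ∉ [11, 12, 15, 16, 19, 20] →
      (mkRows A B).d j % 2 = 1 ∨ fixB (mkRows A B) [] j = true := by decide +kernel
  have h2 : ∀ {i j : Fin 21}, i ≠ j → IsConj (T.x i ^ 2) (T.x j) → ¬ IsConj (T.x i) (T.x i ^ 2) :=
    fun h3 h4 h5 => h3 (T.inj _ _ (h5.trans h4))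
  have h3 : ∀ i : Fin 21, S.ty (T.x i) = rc.getD i 0 := fun i => by rw [hT, T.cl_x]
  refine oddMoved_of_count hE [11, 12, 15, 16, 19, 20] (fun j hj h => (h1 j hj h).imp_right fun h4 σ =>
    fix_of_chk hE hR (fun _ h5 => absurd h5 List.not_mem_nil) hj h4) (f := S.ty)
    (fun a b h => by obtain ⟨c, rfl⟩ := isConj_iff.1 h; rw [S.conj])
    (fun a k hk => Sz.ty_coprime (by decide +kernel) a (hk.coprime_dvd_right (orderOf_dvd_natCard a)))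
    [6, 12, 15, 7] (by decide) ?_ (by decide)
  refine List.forall_mem_cons.2 ⟨⟨_, 1, h3 3, ?_⟩, List.forall_mem_cons.2 ⟨⟨_, 4, h3 8, ?_⟩,
    List.forall_mem_cons.2 ⟨⟨_, 1, h3 13, ?_⟩, List.forall_mem_singleton.2 ⟨_, 1, h3 19, ?_⟩⟩⟩⟩
  · rw [pow_one, ok.o]
    exact ⟨by decide, h2 (by decide) p3⟩
  · rw [order_conj q8, ok.o]
    exact ⟨by decide, fun h => h2 (by decide) p3 ((q8.symm.trans h).trans (q8.pow 2))⟩
  · rw [pow_one, ok.o]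
    exact ⟨by decide, h2 (by decide) p13⟩
  · rw [pow_one, ok.o]
    exact ⟨by decide, h2 (by decide) p19⟩

theorem fin : VAN.Van3 G ∧ OddRat G ∧ OddSigAut G ∧ DegList G degL := by
  obtain ⟨S, hm, -, hH, -, hI, hT⟩ := tab
  refine ⟨hT.van3 hI hm.1 [(7, 1)] (by decide) 3 10 11 (by decide +kernel),
    hT.oddRat hI [6] (by decide +kernel) (by decide +kernel), Sz.oddSigAut_of_hom (by decide +kernel) hH, ?_⟩
  rw [← (by decide +kernel : (mkRows A B).deg = degL)]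
  exact hT.degList

theorem finite : Finite Spor.J2 := by
  obtain ⟨e⟩ := H379.J2Spec.iso
  exact Finite.of_equiv _ e.symm.toEquiv

theorem van : VAN.Van3 Spor.J2 := by
  obtain ⟨e⟩ := H379.J2Spec.iso
  exact fin.1.of_equiv e.symm

theorem odd : OddRat Spor.J2 := by
  obtain ⟨e⟩ := H379.J2Spec.iso
  exact oddRat_of e.symm fin.2.1

theorem sig : OddMoved Spor.J2 ∧ OddSigAut Spor.J2 := by
  obtain ⟨e⟩ := H379.J2Spec.iso
  exact ⟨oddMoved_of e.symm moved_G, oddSigAut_of e.symm fin.2.2.1⟩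

theorem deg : DegList Spor.J2 degL := by
  obtain ⟨e⟩ := H379.J2Spec.iso
  exact degList_of e.symm fin.2.2.2

end Cfsg.Agent.TAB.J2
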